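import Groth.Agent.TorARLib.Approx
import Mathlib.CategoryTheory.Monoidal.Tor
import Mathlib.Algebra.Category.ModuleCat.Monoidal.Symmetric
import Mathlib.Algebra.Category.ModuleCat.Monoidal.Closed

/-!
Uniform vanishing of `Tor` transition maps for the powers of a finitely generated ideal.
-/

set_option autoImplicit false
universe u

open CategoryTheory CategoryTheory.Limits MonoidalCategory

namespace TorARLib

variable {A : Type u} [CommRing A]

/-- A morphism which is a boundary on cycles in degree `i` induces zero on homology. -/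
theorem homologyMap_eq_zero_of_boundary {K L : Cx A} (φ : K ⟶ L) (i : ℕ)
    (h : K.cycles i ⟶ L.X (i + 1)) (hh : K.iCycles i ≫ φ.f i = h ≫ L.d (i + 1) i) :
    HomologicalComplex.homologyMap φ i = 0 := by
  rw [← cancel_epi (K.homologyπ i), comp_zero, HomologicalComplex.homologyπ_naturality]
  have he : HomologicalComplex.cyclesMap φ i = h ≫ L.toCycles (i + 1) i := by
    rw [← cancel_mono (L.iCycles i), HomologicalComplex.cyclesMap_i, hh, Category.assoc,
      HomologicalComplex.toCycles_i]
  rw [he, Category.assoc, HomologicalComplex.toCycles_comp_homologyπ, comp_zero]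

theorem homologyMap_smul_id (K : Cx A) (i : ℕ) (a : A) (φ : K ⟶ K) (hφ : φ.f i = a • 𝟙 (K.X i)) :
    HomologicalComplex.homologyMap φ i = a • 𝟙 (K.homology i) := by
  rw [← cancel_epi (K.homologyπ i), HomologicalComplex.homologyπ_naturality]
  have he : HomologicalComplex.cyclesMap φ i = a • 𝟙 (K.cycles i) := by
    rw [← cancel_mono (K.iCycles i), HomologicalComplex.cyclesMap_i, hφ, Linear.comp_smul,
      Category.comp_id, Linear.smul_comp, Category.id_comp]
  rw [he, Linear.smul_comp, Category.id_comp, Linear.comp_smul, Category.comp_id]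

theorem comp_zero_comp {W X Y Z : ModuleCat.{u} A} (p : W ⟶ X) (q : Y ⟶ Z) :
    p ≫ (0 : X ⟶ Y) ≫ q = 0 := by
  rw [zero_comp, comp_zero]

theorem comp_middle_zero {V W X Y Z U : ModuleCat.{u} A} (p : V ⟶ W) (p' : W ⟶ X) (q' : Y ⟶ Z)
    (q : Z ⟶ U) : p ≫ (p' ≫ (0 : X ⟶ Y) ≫ q') ≫ q = 0 := by
  rw [zero_comp, comp_zero, zero_comp, comp_zero]

theorem comp_add_eq_of_comp_eq_zero {K X Y L U : ModuleCat.{u} A} (i : K ⟶ X) (h : X ⟶ U)
    (D : U ⟶ L) (d : X ⟶ Y) (k : Y ⟶ L) (hd : i ≫ d = 0) :
    i ≫ (h ≫ D + d ≫ k) = (i ≫ h) ≫ D := by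
  rw [Preadditive.comp_add, reassoc_of% hd, zero_comp, add_zero, Category.assoc]

theorem tmul_eq_zero_of_killed {M Y : Type u} [AddCommGroup M] [Module A M] [AddCommGroup Y]
    [Module A Y] (𝔞 : Ideal A) (hM : ∀ a ∈ 𝔞, ∀ x : M, a • x = 0) (m : M) {y : Y}
    (hy : y ∈ 𝔞 • (⊤ : Submodule A Y)) : TensorProduct.tmul A m y = 0 := by
  refine Submodule.smul_induction_on hy (fun a ha y _ => ?_) fun p q hp hq => by
    rw [TensorProduct.tmul_add, hp, hq, add_zero]
  rw [← TensorProduct.smul_tmul, hM a ha, TensorProduct.zero_tmul]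

theorem whiskerLeft_eq_of_sub_mem (M : ModuleCat.{u} A) (𝔞 : Ideal A)
    (hM : ∀ a ∈ 𝔞, ∀ x : M, a • x = 0) {X Y : ModuleCat.{u} A} (g g' : X ⟶ Y)
    (h : ∀ x, g.hom x - g'.hom x ∈ 𝔞 • (⊤ : Submodule A Y)) : M ◁ g = M ◁ g' := by
  refine ModuleCat.hom_ext ?_
  rw [ModuleCat.hom_whiskerLeft, ModuleCat.hom_whiskerLeft]
  refine TensorProduct.ext' fun m x => ?_
  change TensorProduct.tmul A m (g.hom x) = TensorProduct.tmul A m (g'.hom x)
  rw [← sub_eq_zero, ← TensorProduct.tmul_sub]
  exact tmul_eq_zero_of_killed 𝔞 hM m (h x)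

variable {I : Ideal A}

/-- The resolution of `A/Iⁿ` used below. -/
noncomputable abbrev powRes (I : Ideal A) (n : ℕ) :
    ProjectiveResolution (ModuleCat.of A (A ⧸ I ^ n)) :=
  projectiveResolution _

theorem isZeroMod_resolution {Z : ModuleCat.{u} A} (P : ProjectiveResolution Z) :
    (⟨fun _ => P.complex, fun _ => 𝟙 _, fun _ _ _ _ => rfl⟩ : Tower A).IsZeroMod ⊥ 0 := by
  intro a q z hz
  rw [Submodule.bot_smul, Submodule.mem_bot] at hz
  obtain ⟨w, hw⟩ := ((ShortComplex.moduleCat_exact_iff _).1 (P.exact_succ q)) z hz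
  exact Submodule.mem_sup_left ⟨w, hw⟩

theorem projective_of_resolution {Z : ModuleCat.{u} A} (P : ProjectiveResolution Z) (j : ℕ) :
    Module.Projective A (P.complex.X j) :=
  (IsProjective.iff_projective (P.complex.X j)).2 (P.projective j)

section

variable {t : ℕ} (R : Res (PolyRing A t) (PolyRing A t ⧸ varIdeal A t t) t) (f : Fin t → A)
  (hI : I = Ideal.span (Set.range f))

/-- The augmentation with target `A/Iⁿ`. -/
noncomputable def augI (n : ℕ) : (R.P 0 ⧸ powTop R f n 0) →ₗ[A] A ⧸ I ^ n :=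
  (Submodule.quotEquivOfEq _ _ (by rw [hI])).toLinearMap ∘ₗ approxAug R f n

theorem augI_mk (n : ℕ) (x : R.P 0) :
    augI R f hI n (Submodule.Quotient.mk x) = Submodule.Quotient.mk (eps R x) := rfl

theorem augI_surjective (n : ℕ) : Function.Surjective (augI R f hI n) :=
  (Submodule.quotEquivOfEq (Ideal.span (Set.range f) ^ n) (I ^ n) (by rw [hI])).surjective.comp
    (approxAug_surjective R f n)

theorem augI_d (n : ℕ) (y : (approx R f n).X 1) :
    augI R f hI n (((approx R f n).d 1 0).hom y) = 0 := by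
  simp only [augI, LinearMap.comp_apply]
  rw [approxAug_d, map_zero]

theorem mem_range_of_augI {n : ℕ} {y : (approx R f n).X 0} (hy : augI R f hI n y = 0) :
    y ∈ LinearMap.range ((approx R f n).d 1 0).hom :=
  mem_range_of_approxAug R f
    ((Submodule.quotEquivOfEq (Ideal.span (Set.range f) ^ n) (I ^ n) (by rw [hI])).map_eq_zero_iff.1 hy)

/-- The map `A/I^b → A/I^a`. -/
noncomputable abbrev quotMap (I : Ideal A) {a b : ℕ} (h : a ≤ b) :
    ModuleCat.of A (A ⧸ I ^ b) ⟶ ModuleCat.of A (A ⧸ I ^ a) :=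
  ModuleCat.ofHom (Submodule.mapQ (I ^ b) (I ^ a) LinearMap.id (Ideal.pow_le_pow_right h))

theorem augI_τ {a b : ℕ} (h : a ≤ b) (y : (approx R f b).X 0) :
    augI R f hI a (τQ R f h 0 y) = (quotMap I h).hom (augI R f hI b y) := by
  obtain ⟨x, rfl⟩ := Submodule.Quotient.mk_surjective _ y
  rfl

theorem exists_approx_to_res [IsNoetherianRing A] (a : ℕ) :
    ∃ ψ : approx R f a ⟶ (powRes I a).complex,
      ∀ x, ((powRes I a).π.f 0).hom ((ψ.f 0).hom x) = augI R f hI a x := by
  have hsurj : Function.Surjective ((powRes I a).π.f 0).hom :=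
    (ModuleCat.epi_iff_surjective _).1 inferInstance
  have := projective_quot R f a 0
  obtain ⟨f₀, hf₀⟩ := Module.projective_lifting_property ((powRes I a).π.f 0).hom
    (augI R f hI a) hsurj
  have hex := (ShortComplex.moduleCat_exact_iff _).1 (powRes I a).exact₀
  obtain ⟨ψ, hψ⟩ := exists_hom (isZeroMod_resolution (powRes I a)) (approx R f a)
    (projective_approx R f a) t 0 0 (by simp)
    (fun j hj => Or.inl (subsingleton_approx R f a (by omega))) f₀ (fun x => hex _ (by
      change (((powRes I a).π.f 0).hom ∘ₗ f₀) (((approx R f a).d 1 0).hom x) = 0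
      rw [hf₀]
      exact augI_d R f hI a x))
  refine ⟨ψ, fun x => ?_⟩
  rw [hψ]
  exact LinearMap.congr_fun hf₀ x

theorem exists_res_to_approx [IsNoetherianRing A] :
    ∃ c : ℕ, ∀ a b : ℕ, (hab : a + c ≤ b) →
      ∃ φ : (powRes I b).complex ⟶ approx R f a,
        ∀ x, augI R f hI a ((φ.f 0).hom x) =
          (quotMap I (le_trans (Nat.le_add_right a c) hab)).hom (((powRes I b).π.f 0).hom x) := by
  obtain ⟨c₀, hc₀⟩ := exists_isZeroMod R f ⊥
  refine ⟨t * c₀, fun a b hab => ?_⟩
  have := projective_of_resolution (powRes I b) 0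
  obtain ⟨f₀, hf₀⟩ := Module.projective_lifting_property (augI R f hI b)
    ((powRes I b).π.f 0).hom (augI_surjective R f hI b)
  obtain ⟨φ, hφ⟩ := exists_hom hc₀ (powRes I b).complex (projective_of_resolution _) t a b hab
    (fun j hj => Or.inr (subsingleton_approx R f a hj)) f₀ (fun x => mem_range_of_augI R f hI (by
      change (augI R f hI b ∘ₗ f₀) (((powRes I b).complex.d 1 0).hom x) = 0
      rw [hf₀]
      exact congr($((powRes I b).complex_d_comp_π_f_zero) x)))
  refine ⟨φ, fun x => ?_⟩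
  refine (congrArg (augI R f hI a) (LinearMap.congr_fun hφ x)).trans ?_
  exact (augI_τ R f hI _ (f₀ x)).trans (congrArg _ (LinearMap.congr_fun hf₀ x))

variable [IsNoetherianRing A]

include R hI in
/-- The transition map of resolutions factors through the approximating complexes. -/
theorem exists_factor :
    ∃ c : ℕ, ∀ (a a' b : ℕ) (ha : a ≤ a') (hab : a' + c ≤ b),
      ∃ (φ : (powRes I b).complex ⟶ approx R f a') (ψ : approx R f a ⟶ (powRes I a).complex),
        (φ ≫ approxMap R f ha ≫ ψ) ≫ (powRes I a).π = (powRes I b).π ≫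
          (ChainComplex.single₀ _).map (quotMap I (ha.trans (le_trans (Nat.le_add_right a' c) hab))) := by
  obtain ⟨c, hc⟩ := exists_res_to_approx R f hI
  refine ⟨c, fun a a' b ha hab => ?_⟩
  obtain ⟨φ, hφ⟩ := hc a' b hab
  obtain ⟨ψ, hψ⟩ := exists_approx_to_res R f hI a
  refine ⟨φ, ψ, HomologicalComplex.to_single_hom_ext ?_⟩
  rw [HomologicalComplex.comp_f, HomologicalComplex.comp_f, HomologicalComplex.comp_f,
    HomologicalComplex.comp_f, ChainComplex.single₀_map_f_zero]
  refine ModuleCat.hom_ext (LinearMap.ext fun x => ?_)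
  change ((powRes I a).π.f 0).hom ((ψ.f 0).hom (τQ R f ha 0 ((φ.f 0).hom x))) = _
  rw [hψ, augI_τ, hφ]
  obtain ⟨r, hr⟩ := Submodule.Quotient.mk_surjective (I ^ b) (((powRes I b).π.f 0).hom x)
  rw [ModuleCat.hom_comp, LinearMap.comp_apply, ← hr]
  rfl

include R hI in
/-- Above the number of generators the transition maps on `Tor` vanish. -/
theorem exists_tor_map_eq_zero_high :
    ∃ c : ℕ, ∀ (M : ModuleCat.{u} A) (i a b : ℕ) (hi : t < i) (hab : a + c ≤ b),
      ((Tor (ModuleCat.{u} A) i).obj M).map (quotMap I (le_trans (Nat.le_add_right a c) hab)) = 0 := by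
  obtain ⟨c, hc⟩ := exists_factor R f hI
  refine ⟨c, fun M i a b hi hab => ?_⟩
  obtain ⟨φ, ψ, w⟩ := hc a a b le_rfl hab
  change (Functor.leftDerived ((tensoringLeft (ModuleCat.{u} A)).obj M) i).map _ = 0
  rw [Functor.leftDerived_map_eq _ i _ _ w]
  have hz : HomologicalComplex.homologyMap
      ((((tensoringLeft (ModuleCat.{u} A)).obj M).mapHomologicalComplex (ComplexShape.down ℕ)).map
        (φ ≫ approxMap R f le_rfl ≫ ψ)) i = 0 := by
    refine homologyMap_eq_zero_of_boundary _ i 0 ?_
    have h0 : φ.f i = 0 := by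
      have := subsingleton_approx R f a hi
      exact ModuleCat.hom_ext (LinearMap.ext fun x => Subsingleton.elim _ _)
    rw [Functor.mapHomologicalComplex_map_f, HomologicalComplex.comp_f, h0, zero_comp,
      Functor.map_zero]
    exact comp_zero.trans zero_comp.symm
  rw [Functor.comp_map, HomologicalComplex.homologyFunctor_map, hz]
  exact comp_zero_comp _ _

include R hI in
/-- For modules killed by `I^m` the transition maps on positive `Tor` vanish. -/
theorem exists_tor_map_eq_zero_killed (m q : ℕ) :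
    ∃ c : ℕ, ∀ (M : ModuleCat.{u} A), (∀ a ∈ I ^ m, ∀ x : M, a • x = 0) →
      ∀ (a b : ℕ) (hab : a + c ≤ b),
        ((Tor (ModuleCat.{u} A) (q + 1)).obj M).map
          (quotMap I (le_trans (Nat.le_add_right a c) hab)) = 0 := by
  obtain ⟨c, hc⟩ := exists_factor R f hI
  obtain ⟨c₁, hc₁⟩ := exists_isZeroMod R f (I ^ m)
  refine ⟨m + (q + 1) * c₁ + c, fun M hM a b hab => ?_⟩
  obtain ⟨a', rfl⟩ : ∃ a', b = a' + c := ⟨b - c, by omega⟩
  have ha : a ≤ a' := by omega
  obtain ⟨φ, ψ, w⟩ := hc a a' (a' + c) ha le_rfl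
  obtain ⟨e, he⟩ := exists_eps_eq_one R
  have := projective_quot R f a' 0
  obtain ⟨r₀, hr₀⟩ := Module.projective_lifting_property (I ^ a').mkQ (augI R f hI a')
    (Submodule.mkQ_surjective _)
  obtain ⟨h, hh⟩ := exists_partial_homotopy hc₁ (projective_approx R f) q a a'
    (by omega) ((LinearMap.toSpanSingleton A (R.P 0 ⧸ powTop R f a' 0) (Submodule.Quotient.mk e)) ∘ₗ r₀)
    (fun (x : R.P 0 ⧸ powTop R f a' 0) => Submodule.mem_sup_left (mem_range_of_augI R f hI (by
      change augI R f hI a' (x - r₀ x • Submodule.Quotient.mk e) = 0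
      rw [map_sub, map_smul, augI_mk, he, ← LinearMap.congr_fun hr₀ x, LinearMap.comp_apply,
        Submodule.mkQ_apply, ← Submodule.Quotient.mk_smul, smul_eq_mul, mul_one, sub_self])))
    (fun y => by
      have h0 : r₀ (((approx R f a').d 1 0).hom y) ∈ I ^ a' := by
        rw [← Submodule.Quotient.mk_eq_zero, ← Submodule.mkQ_apply]
        exact (LinearMap.congr_fun hr₀ _).trans (augI_d R f hI a' y)
      exact Submodule.smul_mem_smul (Ideal.pow_le_pow_right (by omega) h0)
        (Submodule.mem_top (x := (Submodule.Quotient.mk e : R.P 0 ⧸ powTop R f a' 0))))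
  change (Functor.leftDerived ((tensoringLeft (ModuleCat.{u} A)).obj M) (q + 1)).map _ = 0
  rw [Functor.leftDerived_map_eq _ (q + 1) _ _ w]
  let F : Cx A ⥤ Cx A :=
    ((tensoringLeft (ModuleCat.{u} A)).obj M).mapHomologicalComplex (ComplexShape.down ℕ)
  have hz : HomologicalComplex.homologyMap (F.map (approxMap R f ha)) (q + 1) = 0 := by
    let h' : ∀ j, (approx R f a').X j ⟶ (approx R f a).X (j + 1) := fun j => ModuleCat.ofHom (h j)
    refine homologyMap_eq_zero_of_boundary _ (q + 1)
      ((F.obj (approx R f a')).iCycles (q + 1) ≫ M ◁ h' (q + 1)) ?_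
    have e1 : M ◁ (approxMap R f ha).f (q + 1) =
        M ◁ (h' (q + 1) ≫ (approx R f a).d (q + 2) (q + 1) +
          (approx R f a').d (q + 1) q ≫ h' q) :=
      whiskerLeft_eq_of_sub_mem M _ hM _ _ (fun x => hh q le_rfl x)
    have hd : (F.obj (approx R f a')).iCycles (q + 1) ≫ M ◁ (approx R f a').d (q + 1) q = 0 :=
      (F.obj (approx R f a')).iCycles_d (q + 1) q
    change _ ≫ M ◁ (approxMap R f ha).f (q + 1) = _ ≫ M ◁ (approx R f a).d (q + 2) (q + 1)
    rw [e1, MonoidalPreadditive.whiskerLeft_add, MonoidalCategory.whiskerLeft_comp,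
      MonoidalCategory.whiskerLeft_comp]
    exact comp_add_eq_of_comp_eq_zero _ _ _ _ _ hd
  rw [Functor.comp_map, HomologicalComplex.homologyFunctor_map, Functor.map_comp, Functor.map_comp,
    HomologicalComplex.homologyMap_comp, HomologicalComplex.homologyMap_comp, hz]
  exact comp_middle_zero _ _ _ _

include R hI in
/-- `I^c` annihilates the high `Tor`. -/
theorem exists_smul_tor_eq_zero :
    ∃ c : ℕ, ∀ (M : ModuleCat.{u} A) (i n : ℕ), t < i → ∀ a ∈ I ^ c,
      ∀ x : ((Tor (ModuleCat.{u} A) i).obj M).obj (ModuleCat.of A (A ⧸ I ^ n)), a • x = 0 := by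
  obtain ⟨c, hc⟩ := exists_tor_map_eq_zero_high R f hI
  refine ⟨c, fun M i n hi a ha x => ?_⟩
  let G := (tensoringLeft (ModuleCat.{u} A)).obj M
  let Z := ModuleCat.of A (A ⧸ I ^ n)
  have hzero : (G.leftDerived i).map (a • 𝟙 Z) = 0 := by
    obtain hn | hn := le_or_gt c n
    · have hle : I ^ (n - c) ≤ Submodule.comap (a • LinearMap.id : A →ₗ[A] A) (I ^ n) := by
        intro r hr
        rw [Submodule.mem_comap, LinearMap.smul_apply, LinearMap.id_apply, smul_eq_mul]
        rw [show n = c + (n - c) by omega, pow_add]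
        exact Ideal.mul_mem_mul ha hr
      let μ : ModuleCat.of A (A ⧸ I ^ (n - c)) ⟶ Z :=
        ModuleCat.ofHom (Submodule.mapQ _ _ (a • LinearMap.id) hle)
      have h1 : a • 𝟙 Z = quotMap I (Nat.sub_le n c) ≫ μ := by
        refine ModuleCat.hom_ext (LinearMap.ext fun y => ?_)
        obtain ⟨r, rfl⟩ := Submodule.Quotient.mk_surjective (I ^ n) y
        rfl
      rw [h1, Functor.map_comp]
      have := hc M i (n - c) n hi (by omega)
      change (G.leftDerived i).map _ = 0 at this
      rw [this, zero_comp]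
    · have h1 : a • 𝟙 Z = 0 := by
        refine ModuleCat.hom_ext (LinearMap.ext fun y => ?_)
        obtain ⟨r, rfl⟩ := Submodule.Quotient.mk_surjective (I ^ n) y
        rw [ModuleCat.hom_smul, ModuleCat.hom_id, LinearMap.smul_apply, LinearMap.id_apply,
          ModuleCat.hom_zero, LinearMap.zero_apply]
        change a • (Submodule.Quotient.mk r : A ⧸ I ^ n) = 0
        rw [← Submodule.Quotient.mk_smul, Submodule.Quotient.mk_eq_zero]
        exact Ideal.mul_mem_right _ _ (Ideal.pow_le_pow_right hn.le ha)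
      have w0 : (0 : (powRes I n).complex ⟶ (powRes I n).complex) ≫ (powRes I n).π =
          (powRes I n).π ≫ (ChainComplex.single₀ _).map (0 : Z ⟶ Z) := by
        rw [zero_comp, Functor.map_zero, comp_zero]
      rw [h1, Functor.leftDerived_map_eq G i _ _ w0, Functor.comp_map,
        HomologicalComplex.homologyFunctor_map, Functor.map_zero, HomologicalComplex.homologyMap_zero]
      exact comp_zero_comp _ _
  have w : (a • 𝟙 (powRes I n).complex) ≫ (powRes I n).π =
      (powRes I n).π ≫ (ChainComplex.single₀ _).map (a • 𝟙 Z) := by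
    refine HomologicalComplex.to_single_hom_ext ?_
    rw [HomologicalComplex.comp_f, HomologicalComplex.comp_f, ChainComplex.single₀_map_f_zero,
      HomologicalComplex.smul_f_apply, HomologicalComplex.id_f]
    exact ModuleCat.hom_ext (LinearMap.ext fun y => map_smul ((powRes I n).π.f 0).hom a y)
  have key : (G.leftDerived i).map (a • 𝟙 Z) = a • 𝟙 ((G.leftDerived i).obj Z) := by
    rw [Functor.leftDerived_map_eq G i _ _ w, Functor.comp_map,
      HomologicalComplex.homologyFunctor_map,
      homologyMap_smul_id _ i a _ (by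
        change M ◁ ((a • 𝟙 (powRes I n).complex).f i) = _
        rw [HomologicalComplex.smul_f_apply, HomologicalComplex.id_f,
          MonoidalLinear.whiskerLeft_smul, MonoidalCategory.whiskerLeft_id]
        rfl)]
    erw [Linear.smul_comp, Category.id_comp, Linear.comp_smul, Iso.hom_inv_id]
  have := congr($(key.symm.trans hzero) x)
  exact this

end

theorem exists_span_range_eq (s : Finset A) :
    ∃ f : Fin s.card → A, Ideal.span (s : Set A) = Ideal.span (Set.range f) := by
  refine ⟨fun k => (s.equivFin.symm k : A), ?_⟩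
  congr 1
  ext x
  simp only [Finset.mem_coe, Set.mem_range]
  exact ⟨fun hx => ⟨s.equivFin ⟨x, hx⟩, by simp⟩, by rintro ⟨k, rfl⟩; exact (s.equivFin.symm k).2⟩

end TorARLib
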