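import Groth.Agent.TorARLib.Poly
import Mathlib.Algebra.Module.Torsion.Basic
import Mathlib.LinearAlgebra.DFinsupp

/-!
The tower `C n = P/Jⁿ P` and its properties (see `Groth.Agent.TorARLib.Poly`).
-/

set_option autoImplicit false
universe u

open CategoryTheory MvPolynomial

namespace TorARLib

variable {A : Type u} [CommRing A] {t : ℕ}

/-- The substitution `Xᵢ ↦ Xᵢ + fᵢ`. -/
noncomputable def shift (f : Fin t → A) : PolyRing A t ≃ₐ[A] PolyRing A t :=
  AlgEquiv.ofAlgHom (aeval fun i => X i + C (f i)) (aeval fun i => X i - C (f i))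
    (by ext i; simp [algebraMap_eq]) (by ext i; simp [algebraMap_eq])

/-- The ideal `(Xᵢ + fᵢ)`. -/
noncomputable def shiftIdeal (f : Fin t → A) : Ideal (PolyRing A t) :=
  Ideal.map (shift f).toAlgHom (idealOfVars (Fin t) A)

theorem map_shiftIdeal (f : Fin t → A) :
    (shiftIdeal f).map constantCoeff = Ideal.span (Set.range f) := by
  rw [shiftIdeal, idealOfVars, Ideal.map_span, Ideal.map_span]
  congr 1
  ext a
  simp only [Set.mem_image, Set.mem_range, shift]
  constructor
  · rintro ⟨_, ⟨_, ⟨i, rfl⟩, rfl⟩, rfl⟩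
    exact ⟨i, by simp⟩
  · rintro ⟨i, rfl⟩
    exact ⟨_, ⟨_, ⟨i, rfl⟩, rfl⟩, by simp⟩

/-- Monomials of degree `< n`, as a projection. -/
noncomputable def lowPart (n : ℕ) : PolyRing A t →ₗ[A] PolyRing A t :=
  (basisMonomials (Fin t) A).constr A fun m => if m.degree < n then monomial m 1 else 0

theorem lowPart_monomial (n : ℕ) (m : Fin t →₀ ℕ) (a : A) :
    lowPart n (monomial m a) = if m.degree < n then monomial m a else 0 := by
  have h1 : monomial m a = a • (monomial m (1 : A)) := by simp [smul_monomial]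
  have h2 : lowPart n (monomial m (1 : A)) = if m.degree < n then monomial m 1 else 0 := by
    have := (basisMonomials (Fin t) A).constr_basis A
      (fun m => if m.degree < n then monomial m (1 : A) else 0) m
    rwa [coe_basisMonomials] at this
  rw [h1, map_smul, h2]
  split_ifs <;> simp

theorem lowPart_eq_zero {n : ℕ} {x : PolyRing A t} (hx : x ∈ idealOfVars (Fin t) A ^ n) :
    lowPart n x = 0 := by
  rw [x.as_sum, map_sum]
  refine Finset.sum_eq_zero fun m hm => ?_
  rw [lowPart_monomial, if_neg (not_lt.2 ((mem_pow_idealOfVars_iff n x).1 hx m hm))]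

theorem sub_lowPart_mem (n : ℕ) (x : PolyRing A t) :
    x - lowPart n x ∈ idealOfVars (Fin t) A ^ n := by
  induction x using MvPolynomial.induction_on' with
  | monomial m a =>
    rw [lowPart_monomial]
    split_ifs with h
    · simp
    · rw [sub_zero, mem_pow_idealOfVars_iff]
      intro y hy
      obtain rfl := Finset.mem_singleton.1 (support_monomial_subset hy)
      exact not_lt.1 h
  | add p q hp hq =>
    rw [map_add, add_sub_add_comm]
    exact add_mem hp hq

theorem projective_quot_vars (n : ℕ) :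
    Module.Projective A (PolyRing A t ⧸ idealOfVars (Fin t) A ^ n) := by
  let q : PolyRing A t →ₗ[A] PolyRing A t ⧸ idealOfVars (Fin t) A ^ n :=
    (Ideal.Quotient.mkₐ A _).toLinearMap
  have hle : LinearMap.ker q ≤ LinearMap.ker (lowPart (A := A) (t := t) n) := fun x hx =>
    lowPart_eq_zero (Ideal.Quotient.eq_zero_iff_mem.1 hx)
  have hqs : Function.Surjective q := fun y => Submodule.Quotient.mk_surjective _ y
  refine Module.Projective.of_split
    ((LinearMap.ker q).liftQ (lowPart n) hle ∘ₗ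
      (LinearMap.quotKerEquivOfSurjective q hqs).symm.toLinearMap) q ?_
  ext x
  obtain ⟨x, rfl⟩ := hqs x
  have h : (LinearMap.quotKerEquivOfSurjective q hqs).symm
      (q x) = Submodule.Quotient.mk x := by
    rw [LinearEquiv.symm_apply_eq]; rfl
  simp only [LinearMap.comp_apply, LinearEquiv.coe_coe, h, Submodule.liftQ_apply, LinearMap.id_apply]
  exact (Ideal.Quotient.eq.2 (sub_lowPart_mem n x)).symm

theorem projective_quot_shift (f : Fin t → A) (n : ℕ) :
    Module.Projective A (PolyRing A t ⧸ shiftIdeal f ^ n) := by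
  have := projective_quot_vars (A := A) (t := t) n
  refine Module.Projective.of_equiv' (Ideal.quotientEquivAlg (idealOfVars (Fin t) A ^ n) (shiftIdeal f ^ n) (shift f) ?_).toLinearEquiv
  exact (Ideal.map_pow _ _ _).symm

variable (R : Res (PolyRing A t) (PolyRing A t ⧸ varIdeal A t t) t) (f : Fin t → A)

/-- `Jⁿ P`. -/
noncomputable abbrev powTop (n j : ℕ) : Submodule (PolyRing A t) (R.P j) :=
  shiftIdeal f ^ n • ⊤

theorem powTop_antitone {a b : ℕ} (h : a ≤ b) (j : ℕ) : powTop R f b j ≤ powTop R f a j :=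
  Submodule.smul_mono (Ideal.pow_le_pow_right h) le_rfl

theorem projective_quot (n j : ℕ) [IsNoetherianRing A] :
    Module.Projective A (R.P j ⧸ powTop R f n j) := by
  obtain ⟨m, s, p, h⟩ := exists_split R j
  have hp := projective_quot_shift f n
  have hpi : Module.Projective A (Fin m → PolyRing A t ⧸ shiftIdeal f ^ n) :=
    Module.Projective.of_equiv'
      (DFinsupp.linearEquivFunOnFintype : (Π₀ _ : Fin m, PolyRing A t ⧸ shiftIdeal f ^ n) ≃ₗ[A] _)
  let g : R.P j →ₗ[PolyRing A t] (Fin m → PolyRing A t ⧸ shiftIdeal f ^ n) :=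
    LinearMap.pi fun k => (shiftIdeal f ^ n).mkQ ∘ₗ LinearMap.proj k ∘ₗ s
  have hg : powTop R f n j ≤ LinearMap.ker g := by
    refine Submodule.smul_le.2 fun a ha x _ => ?_
    rw [LinearMap.mem_ker, map_smul]
    funext k
    obtain ⟨y, hy⟩ := Submodule.Quotient.mk_surjective (shiftIdeal f ^ n) (g x k)
    rw [Pi.smul_apply, ← hy, ← Submodule.Quotient.mk_smul, Pi.zero_apply,
      Submodule.Quotient.mk_eq_zero]
    exact Ideal.mul_mem_right _ _ ha
  let v : Fin m → (R.P j ⧸ powTop R f n j) :=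
    fun k => Submodule.Quotient.mk (p (Pi.single k 1))
  let b : (Fin m → PolyRing A t ⧸ shiftIdeal f ^ n) →ₗ[PolyRing A t] R.P j ⧸ powTop R f n j :=
    (Fintype.linearCombination (PolyRing A t ⧸ shiftIdeal f ^ n) v).restrictScalars (PolyRing A t)
  refine Module.Projective.of_split (((powTop R f n j).liftQ g hg).restrictScalars A)
    (b.restrictScalars A) (LinearMap.ext fun x => ?_)
  obtain ⟨x, rfl⟩ := Submodule.Quotient.mk_surjective _ x
  have hb : b ((powTop R f n j).liftQ g hg (Submodule.Quotient.mk x)) = Submodule.Quotient.mk x := by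
    conv_rhs => rw [← LinearMap.id_apply (R := PolyRing A t) x, ← h, LinearMap.comp_apply,
      pi_eq_sum_univ' (s x), map_sum, ← Submodule.mkQ_apply, map_sum]
    simp only [b, Submodule.liftQ_apply, LinearMap.restrictScalars_apply,
      Fintype.linearCombination_apply]
    refine Finset.sum_congr rfl fun k _ => ?_
    rw [map_smul, map_smul]
    rfl
  exact hb

theorem powTop_le_comap (n j : ℕ) : powTop R f n (j + 1) ≤ (powTop R f n j).comap (R.d j) :=
  Submodule.smul_le.2 fun a ha x _ => by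
    rw [Submodule.mem_comap, map_smul]
    exact Submodule.smul_mem_smul ha trivial

/-- The differential of `P/Jⁿ P`. -/
noncomputable def dQ (n j : ℕ) :
    (R.P (j + 1) ⧸ powTop R f n (j + 1)) →ₗ[A] (R.P j ⧸ powTop R f n j) :=
  ((powTop R f n (j + 1)).mapQ (powTop R f n j) (R.d j) (powTop_le_comap R f n j)).restrictScalars A

theorem dQ_mk (n j : ℕ) (x : R.P (j + 1)) :
    dQ R f n j (Submodule.Quotient.mk x) = Submodule.Quotient.mk (R.d j x) := rfl

theorem dQ_dQ (n j : ℕ) : dQ R f n j ∘ₗ dQ R f n (j + 1) = 0 := by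
  refine LinearMap.ext fun x => ?_
  obtain ⟨x, rfl⟩ := Submodule.Quotient.mk_surjective _ x
  rw [LinearMap.comp_apply, dQ_mk, dQ_mk, dd, Submodule.Quotient.mk_zero, LinearMap.zero_apply]

/-- The complex `P/Jⁿ P` of `A`-modules. -/
noncomputable abbrev approx (n : ℕ) : Cx A :=
  ChainComplex.of (fun j => ModuleCat.of A (R.P j ⧸ powTop R f n j))
    (fun j => ModuleCat.ofHom (dQ R f n j))
    (fun j => ModuleCat.hom_ext (dQ_dQ R f n j))

theorem approx_d (n j : ℕ) (x : R.P (j + 1)) :
    ((approx R f n).d (j + 1) j).hom (Submodule.Quotient.mk x) = Submodule.Quotient.mk (R.d j x) := by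
  have h : (approx R f n).d (j + 1) j = ModuleCat.ofHom (dQ R f n j) :=
    ChainComplex.of_d (fun j => ModuleCat.of A (R.P j ⧸ powTop R f n j))
      (fun j => ModuleCat.ofHom (dQ R f n j)) j
  rw [h]
  rfl

/-- The transition map in degree `j`. -/
noncomputable def τQ {a b : ℕ} (h : a ≤ b) (j : ℕ) :
    (R.P j ⧸ powTop R f b j) →ₗ[A] (R.P j ⧸ powTop R f a j) :=
  (Submodule.factor (powTop_antitone R f h j)).restrictScalars A

theorem τQ_mk {a b : ℕ} (h : a ≤ b) (j : ℕ) (x : R.P j) :
    τQ R f h j (Submodule.Quotient.mk x) = Submodule.Quotient.mk x := rfl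

theorem dQ_τQ {a b : ℕ} (h : a ≤ b) (j : ℕ) :
    dQ R f a j ∘ₗ τQ R f h (j + 1) = τQ R f h j ∘ₗ dQ R f b j := by
  refine LinearMap.ext fun x => ?_
  obtain ⟨x, rfl⟩ := Submodule.Quotient.mk_surjective _ x
  simp only [LinearMap.comp_apply, τQ_mk, dQ_mk]

theorem approx_d_eq (n j : ℕ) :
    (approx R f n).d (j + 1) j = ModuleCat.ofHom (dQ R f n j) :=
  ChainComplex.of_d (fun j => ModuleCat.of A (R.P j ⧸ powTop R f n j))
    (fun j => ModuleCat.ofHom (dQ R f n j)) j

/-- The transition chain map. -/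
noncomputable def approxMap {a b : ℕ} (h : a ≤ b) : approx R f b ⟶ approx R f a where
  f j := ModuleCat.ofHom (τQ R f h j)
  comm' i j (hij : j + 1 = i) := by
    subst hij
    rw [approx_d_eq, approx_d_eq, ← ModuleCat.ofHom_comp, ← ModuleCat.ofHom_comp, dQ_τQ]

theorem approxMap_comp {a b c : ℕ} (h : a ≤ b) (h' : b ≤ c) (j : ℕ)
    (x : R.P j ⧸ powTop R f c j) :
    τQ R f h j (τQ R f h' j x) = τQ R f (h.trans h') j x := by
  obtain ⟨x, rfl⟩ := Submodule.Quotient.mk_surjective _ x
  rfl

/-- The tower of the complexes `P/Jⁿ P`. -/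
noncomputable def approxTower : Tower A where
  C := approx R f
  τ h := approxMap R f h
  τ_comp h h' j x := approxMap_comp R f h h' j x

theorem approxTower_τ {a b : ℕ} (h : a ≤ b) (j : ℕ) (x : R.P j) :
    (((approxTower R f).τ h).f j).hom (Submodule.Quotient.mk x) = Submodule.Quotient.mk x := rfl

/-- `P` itself, as a complex of `A`-modules. -/
noncomputable abbrev resCx : Cx A :=
  ChainComplex.of (fun j => ModuleCat.of A (R.P j))
    (fun j => ModuleCat.ofHom ((R.d j).restrictScalars A))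
    (fun j => ModuleCat.hom_ext (LinearMap.ext fun x => dd R j x))

theorem resCx_d (j : ℕ) (x : R.P (j + 1)) : ((resCx R).d (j + 1) j).hom x = R.d j x := by
  have h : (resCx R).d (j + 1) j = ModuleCat.ofHom ((R.d j).restrictScalars A) :=
    ChainComplex.of_d (fun j => ModuleCat.of A (R.P j))
      (fun j => ModuleCat.ofHom ((R.d j).restrictScalars A)) j
  rw [h]
  rfl

/-- The constant tower at `P`. -/
noncomputable def resTower : Tower A where
  C _ := resCx R
  τ _ := 𝟙 _
  τ_comp _ _ _ _ := rfl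

/-- `P` stays exact in positive degrees modulo any ideal of `A`. -/
theorem exists_d_of_d_mem [IsNoetherianRing A] (𝔞 : Ideal A) (j : ℕ) (x : R.P (j + 1))
    (hx : R.d j x ∈ 𝔞 • (⊤ : Submodule A (R.P j))) :
    ∃ w : R.P (j + 2), x - R.d (j + 1) w ∈ 𝔞 • (⊤ : Submodule A (R.P (j + 1))) := by
  obtain ⟨e, he⟩ := exists_eps_eq_one R
  have hzero : (resTower R).IsZeroMod ⊥ 0 := by
    intro a q z hz
    rw [Submodule.bot_smul, Submodule.mem_bot] at hz
    obtain ⟨w, hw⟩ := exists_d_of_d R ((resCx_d R q z).symm.trans hz)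
    exact Submodule.mem_sup_left ⟨w, (resCx_d R (q + 1) w).trans hw⟩
  obtain ⟨h, hh⟩ := exists_partial_homotopy (T := resTower R) hzero (fun b i => projective_P R i)
    j 0 0 (by omega) ((LinearMap.toSpanSingleton A (R.P 0) e) ∘ₗ eps R)
    (fun (y : R.P 0) => by
      obtain ⟨w, hw⟩ := exists_d_of_eps R (x := y - eps R y • e) (by simp [he])
      exact Submodule.mem_sup_left ⟨w, (resCx_d R 0 w).trans hw⟩)
    (fun y => by
      rw [Submodule.bot_smul, Submodule.mem_bot]
      change eps R (((resCx R).d 1 0).hom y) • e = 0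
      rw [resCx_d, eps_d, zero_smul])
  refine ⟨(h (j + 1) x : R.P (j + 2)), ?_⟩
  have h1 := hh j le_rfl x
  rw [Submodule.bot_smul, Submodule.mem_bot, sub_eq_zero] at h1
  let h' : ∀ i, R.P i →ₗ[A] R.P (i + 1) := h
  have h1' : x = R.d (j + 1) (h' (j + 1) x) + h' j (R.d j x) :=
    h1.trans (congrArg₂ (fun (p q : R.P (j + 1)) => p + q) (resCx_d R (j + 1) _)
      (congrArg (h' j) (resCx_d R j x)))
  clear h1
  have h2 : h' j (R.d j x) ∈ 𝔞 • (⊤ : Submodule A (R.P (j + 1))) := map_smul_top_mem (h' j) 𝔞 hx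
  have h3 : x - R.d (j + 1) (h' (j + 1) x) = h' j (R.d j x) := sub_eq_iff_eq_add'.mpr h1'
  exact (congrArg (fun y => y ∈ 𝔞 • (⊤ : Submodule A (R.P (j + 1)))) h3).mpr h2

theorem mem_map_smul_top {M : Type u} [AddCommGroup M] [Module (PolyRing A t) M] [Module A M]
    [IsScalarTower A (PolyRing A t) M] (𝔞 : Ideal A) (x : M) :
    x ∈ 𝔞.map (C : A →+* PolyRing A t) • (⊤ : Submodule (PolyRing A t) M) ↔
      x ∈ 𝔞 • (⊤ : Submodule A M) := by
  constructor
  · intro h
    refine Submodule.smul_induction_on h (fun s hs m _ => ?_) fun _ _ => add_mem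
    induction hs using Submodule.span_induction generalizing m with
    | mem y hy =>
      obtain ⟨a, ha, rfl⟩ := hy
      rw [← algebraMap_eq, IsScalarTower.algebraMap_smul]
      exact Submodule.smul_mem_smul ha trivial
    | zero => simp
    | add y z _ _ hy hz => rw [add_smul]; exact add_mem (hy m trivial) (hz m trivial)
    | smul r y _ hy => rw [smul_eq_mul, mul_comm, mul_smul]; exact hy _ trivial
  · intro h
    refine Submodule.smul_induction_on h (fun a ha m _ => ?_) fun _ _ => add_mem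
    rw [← IsScalarTower.algebraMap_smul (PolyRing A t) a m]
    exact Submodule.smul_mem_smul (Ideal.mem_map_of_mem _ ha) trivial

theorem exists_mem_smul_top_of_quot {S M : Type u} [CommRing S] [AddCommGroup M] [Module S M]
    [Algebra A S] [Module A M] [IsScalarTower A S M] (W : Submodule S M) (𝔞 : Ideal A) {z : M ⧸ W}
    (hz : z ∈ 𝔞 • (⊤ : Submodule A (M ⧸ W))) :
    ∃ y ∈ 𝔞 • (⊤ : Submodule A M), Submodule.Quotient.mk y = z := by
  refine Submodule.smul_induction_on hz (fun a ha m _ => ?_) ?_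
  · obtain ⟨x, rfl⟩ := Submodule.Quotient.mk_surjective _ m
    exact ⟨a • x, Submodule.smul_mem_smul ha trivial, rfl⟩
  · rintro _ _ ⟨x, hx, rfl⟩ ⟨y, hy, rfl⟩
    exact ⟨x + y, add_mem hx hy, rfl⟩

/-- Artin–Rees: the transition maps kill positive homology modulo `𝔞`, after a bounded step. -/
theorem exists_isZeroMod [IsNoetherianRing A] (𝔞 : Ideal A) :
    ∃ c, (approxTower R f).IsZeroMod 𝔞 c := by
  let U : ∀ q, Submodule (PolyRing A t) (R.P q) := fun q => 𝔞.map (C : A →+* PolyRing A t) • ⊤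
  let φ : ∀ q, R.P (q + 1) →ₗ[PolyRing A t] (R.P q ⧸ U q) := fun q => (U q).mkQ ∘ₗ R.d q
  choose k hk using fun q => (shiftIdeal f).exists_pow_inf_eq_pow_smul (LinearMap.range (φ q))
  refine ⟨(Finset.range t).sup k, fun a q z hz => ?_⟩
  obtain ⟨x, rfl⟩ := Submodule.Quotient.mk_surjective _ z
  change Submodule.Quotient.mk x ∈ LinearMap.range ((approx R f a).d (q + 2) (q + 1)).hom ⊔ _
  set c := (Finset.range t).sup k with hc
  obtain hq | hq := le_or_gt t q
  · have := subsingleton_P R (show t < q + 1 by omega)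
    rw [Subsingleton.elim x 0, Submodule.Quotient.mk_zero]
    exact zero_mem _
  have hkc : k q ≤ c := Finset.le_sup (f := k) (Finset.mem_range.2 hq)
  change ((approx R f (a + c)).d (q + 1) q).hom (Submodule.Quotient.mk x) ∈ _ at hz
  rw [approx_d] at hz
  obtain ⟨y, hy, hyx⟩ := exists_mem_smul_top_of_quot (powTop R f (a + c) q) 𝔞 hz
  have hdy : R.d q x - y ∈ powTop R f (a + c) q :=
    (Submodule.Quotient.eq _).1 (show Submodule.Quotient.mk (R.d q x) = Submodule.Quotient.mk y
      from hyx.symm)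
  have h1 : φ q x ∈ shiftIdeal f ^ (a + c) • ⊤ ⊓ LinearMap.range (φ q) := by
    refine ⟨?_, x, rfl⟩
    have hy0 : (U q).mkQ y = 0 :=
      (Submodule.Quotient.mk_eq_zero _).2 ((mem_map_smul_top 𝔞 y).2 hy)
    have he : φ q x = (U q).mkQ (R.d q x - y) := by
      rw [map_sub, hy0, sub_zero]; rfl
    rw [he]
    have := Submodule.mem_map_of_mem (f := (U q).mkQ) hdy
    rw [powTop, Submodule.map_smul''] at this
    exact Submodule.smul_mono le_rfl le_top this
  rw [hk q (a + c) (by omega)] at h1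
  have h2 : φ q x ∈ Submodule.map (φ q) (powTop R f (a + c - k q) (q + 1)) := by
    rw [powTop, Submodule.map_smul'', Submodule.map_top]
    exact Submodule.smul_mono le_rfl inf_le_right h1
  obtain ⟨x', hx', hxx'⟩ := h2
  have hmem : R.d q (x - x') ∈ 𝔞 • (⊤ : Submodule A (R.P q)) := by
    refine (mem_map_smul_top (M := R.P q) 𝔞 _).1 ((Submodule.Quotient.mk_eq_zero (U q)).1 ?_)
    change φ q (x - x') = 0
    rw [map_sub, hxx', sub_self]
  obtain ⟨w, hw⟩ := exists_d_of_d_mem R 𝔞 q (x - x') hmem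
  refine Submodule.mem_sup.2 ⟨_, ⟨Submodule.Quotient.mk w, rfl⟩, _,
    map_smul_top_mem ((powTop R f a (q + 1)).mkQ.restrictScalars A) 𝔞 hw, ?_⟩
  erw [approx_d]
  change Submodule.Quotient.mk (R.d (q + 1) w) + Submodule.Quotient.mk (x - x' - R.d (q + 1) w) =
    Submodule.Quotient.mk x
  rw [← Submodule.Quotient.mk_add, Submodule.Quotient.eq]
  have h3 : R.d (q + 1) w + (x - x' - R.d (q + 1) w) - x = -x' := by abel
  rw [h3]
  exact neg_mem (powTop_antitone R f (by omega) _ hx')

theorem subsingleton_approx (n : ℕ) {j : ℕ} (hj : t < j) : Subsingleton ((approx R f n).X j) := by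
  have := subsingleton_P R hj
  exact (Submodule.Quotient.mk_surjective (powTop R f n j)).subsingleton

theorem projective_approx [IsNoetherianRing A] (n j : ℕ) :
    Module.Projective A ((approx R f n).X j) := projective_quot R f n j

/-- `x ↦ ε x mod Iⁿ`. -/
noncomputable def epsQ (n : ℕ) : R.P 0 →ₗ[A] A ⧸ Ideal.span (Set.range f) ^ n :=
  (Ideal.span (Set.range f) ^ n).mkQ ∘ₗ eps R

theorem powTop_le_ker (n : ℕ) :
    (powTop R f n 0).restrictScalars A ≤ LinearMap.ker (epsQ R f n) := by
  intro x hx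
  rw [LinearMap.mem_ker, epsQ, LinearMap.comp_apply, Submodule.mkQ_apply,
    Submodule.Quotient.mk_eq_zero]
  refine Submodule.smul_induction_on (Submodule.restrictScalars_mem A _ _ |>.1 hx)
    (fun s hs m _ => ?_) fun p q hp hq => by rw [map_add]; exact add_mem hp hq
  rw [eps_smul]
  refine Ideal.mul_mem_right _ _ ?_
  rw [← map_shiftIdeal, ← Ideal.map_pow]
  exact Ideal.mem_map_of_mem _ hs

/-- The augmentation `C n → A/Iⁿ`, `I = (fᵢ)`. -/
noncomputable def approxAug (n : ℕ) :
    (R.P 0 ⧸ powTop R f n 0) →ₗ[A] A ⧸ Ideal.span (Set.range f) ^ n :=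
  ((powTop R f n 0).restrictScalars A).liftQ (epsQ R f n) (powTop_le_ker R f n) ∘ₗ
    (Submodule.Quotient.restrictScalarsEquiv A (powTop R f n 0)).symm.toLinearMap

theorem approxAug_mk (n : ℕ) (x : R.P 0) :
    approxAug R f n (Submodule.Quotient.mk x) = Submodule.Quotient.mk (eps R x) := rfl

theorem approxAug_surjective (n : ℕ) : Function.Surjective (approxAug R f n) := by
  intro y
  obtain ⟨r, rfl⟩ := Submodule.Quotient.mk_surjective _ y
  obtain ⟨e, he⟩ := exists_eps_eq_one R
  refine ⟨Submodule.Quotient.mk (r • e), ?_⟩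
  rw [approxAug_mk, map_smul, he, smul_eq_mul, mul_one]

theorem approxAug_d (n : ℕ) (y : (approx R f n).X 1) :
    approxAug R f n (((approx R f n).d 1 0).hom y) = 0 := by
  obtain ⟨x, rfl⟩ := Submodule.Quotient.mk_surjective _ y
  erw [approx_d, approxAug_mk, eps_d, Submodule.Quotient.mk_zero]

theorem mem_range_of_approxAug {n : ℕ} {y : (approx R f n).X 0} (hy : approxAug R f n y = 0) :
    y ∈ LinearMap.range ((approx R f n).d 1 0).hom := by
  obtain ⟨x, rfl⟩ := Submodule.Quotient.mk_surjective _ y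
  rw [approxAug_mk, Submodule.Quotient.mk_eq_zero, ← map_shiftIdeal, ← Ideal.map_pow,
    Ideal.mem_map_iff_of_surjective constantCoeff
      (fun a => ⟨C a, constantCoeff_C _ a⟩)] at hy
  obtain ⟨s, hs, hsx⟩ := hy
  obtain ⟨e, he⟩ := exists_eps_eq_one R
  obtain ⟨w, hw⟩ := exists_d_of_eps R (x := x - s • e) (by
    rw [map_sub, eps_smul, he, mul_one, hsx, sub_self])
  refine ⟨Submodule.Quotient.mk w, ?_⟩
  refine (approx_d R f n 0 w).trans ?_
  rw [hw]
  refine (Submodule.Quotient.eq _).2 ?_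
  rw [sub_sub_cancel_left]
  exact neg_mem (Submodule.smul_mem_smul hs trivial)

end TorARLib
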