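import Mathlib.Algebra.Category.ModuleCat.Abelian
import Mathlib.Algebra.Category.ModuleCat.Projective
import Mathlib.Algebra.Homology.HomologicalComplex
import Mathlib.RingTheory.Ideal.Operations

/-!
Lifting maps and homotopies into towers of chain complexes whose transition maps vanish on homology
(possibly modulo an ideal): after shifting the index by a bounded amount one can still lift.
-/

set_option autoImplicit false
universe u

open CategoryTheory

namespace TorARLib

variable {A : Type u} [CommRing A]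

abbrev Cx (A : Type u) [CommRing A] := ChainComplex (ModuleCat.{u} A) ℕ

/-- Lifting through a map, modulo a submodule. -/
theorem lift_mod {Q M N : Type u} [AddCommGroup Q] [Module A Q] [AddCommGroup M] [Module A M]
    [AddCommGroup N] [Module A N] [Module.Projective A Q] (d : M →ₗ[A] N) (g : Q →ₗ[A] N)
    (S : Submodule A N) (h : ∀ x, g x ∈ LinearMap.range d ⊔ S) :
    ∃ v : Q →ₗ[A] M, ∀ x, g x - d (v x) ∈ S := by
  have hmem : ∀ x, (S.mkQ ∘ₗ g) x ∈ LinearMap.range (S.mkQ ∘ₗ d) := by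
    intro x
    obtain ⟨p, ⟨y, rfl⟩, s, hs, hx⟩ := Submodule.mem_sup.1 (h x)
    refine ⟨y, ?_⟩
    simp only [LinearMap.comp_apply, Submodule.mkQ_apply, ← hx, Submodule.Quotient.mk_add,
      (Submodule.Quotient.mk_eq_zero S).2 hs, add_zero]
  obtain ⟨v, hv⟩ := Module.projective_lifting_property (S.mkQ ∘ₗ d).rangeRestrict
    ((S.mkQ ∘ₗ g).codRestrict _ hmem) (LinearMap.surjective_rangeRestrict _)
  refine ⟨v, fun x => (Submodule.Quotient.eq S).1 ?_⟩
  exact (congrArg Subtype.val (LinearMap.congr_fun hv x)).symm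

theorem map_smul_top_mem {M N : Type u} [AddCommGroup M] [Module A M] [AddCommGroup N] [Module A N]
    (f : M →ₗ[A] N) (𝔞 : Ideal A) {x : M} (hx : x ∈ 𝔞 • (⊤ : Submodule A M)) :
    f x ∈ 𝔞 • (⊤ : Submodule A N) := by
  refine (Submodule.map_smul'' 𝔞 (⊤ : Submodule A M) f ▸ ?_ :
    (Submodule.map f (𝔞 • ⊤)) ≤ 𝔞 • (⊤ : Submodule A N)) (Submodule.mem_map_of_mem hx)
  exact Submodule.smul_mono le_rfl le_top

theorem comm_apply {X Y : Cx A} (φ : X ⟶ Y) (i j : ℕ) (x : X.X i) :
    (φ.f j).hom ((X.d i j).hom x) = (Y.d i j).hom ((φ.f i).hom x) :=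
  congr($(φ.comm i j) x).symm

theorem dd_apply (X : Cx A) (i j k : ℕ) (x : X.X i) : (X.d j k).hom ((X.d i j).hom x) = 0 :=
  congr($(X.d_comp_d i j k) x)

variable (A) in
/-- A tower of chain complexes. -/
structure Tower where
  C : ℕ → Cx A
  τ : ∀ {a b : ℕ}, a ≤ b → (C b ⟶ C a)
  τ_comp : ∀ {a b c : ℕ} (h : a ≤ b) (h' : b ≤ c) (j : ℕ) (x : (C c).X j),
    ((τ h).f j).hom (((τ h').f j).hom x) = ((τ (h.trans h')).f j).hom x

/-- The transition maps of step `c` kill positive homology modulo `𝔞`. -/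
def Tower.IsZeroMod (T : Tower A) (𝔞 : Ideal A) (c : ℕ) : Prop :=
  ∀ (a q : ℕ) (z : (T.C (a + c)).X (q + 1)),
    ((T.C (a + c)).d (q + 1) q).hom z ∈ 𝔞 • (⊤ : Submodule A ((T.C (a + c)).X q)) →
    ((T.τ (Nat.le_add_right a c)).f (q + 1)).hom z ∈
      LinearMap.range ((T.C a).d (q + 2) (q + 1)).hom ⊔
        𝔞 • (⊤ : Submodule A ((T.C a).X (q + 1)))

theorem exists_partial_map {T : Tower A} {c : ℕ} (hT : T.IsZeroMod ⊥ c) (F : Cx A)
    (hF : ∀ j, Module.Projective A (F.X j)) :
    ∀ (q a b : ℕ) (hab : a + q * c ≤ b) (f₀ : F.X 0 →ₗ[A] (T.C b).X 0),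
      (∀ x, f₀ ((F.d 1 0).hom x) ∈ LinearMap.range ((T.C b).d 1 0).hom) →
      ∃ f : ∀ j, F.X j →ₗ[A] (T.C a).X j,
        f 0 = ((T.τ (le_trans (Nat.le_add_right a (q * c)) hab)).f 0).hom ∘ₗ f₀ ∧
        ∀ j, j ≤ q → ∀ x, ((T.C a).d (j + 1) j).hom (f (j + 1) x) = f j ((F.d (j + 1) j).hom x) := by
  classical
  intro q
  induction q with
  | zero =>
    intro a b hab f₀ hf₀
    have ha : a ≤ b := by omega
    obtain ⟨v, hv⟩ := lift_mod ((T.C a).d 1 0).hom
      (((T.τ ha).f 0).hom ∘ₗ f₀ ∘ₗ (F.d 1 0).hom) ⊥ (fun x => by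
        obtain ⟨y, hy⟩ := hf₀ x
        refine Submodule.mem_sup_left ⟨((T.τ ha).f 1).hom y, ?_⟩
        rw [← comm_apply, hy]; rfl)
    refine ⟨Function.update (Function.update (fun j => 0) 0 (((T.τ ha).f 0).hom ∘ₗ f₀)) 1 v,
      by simp, fun j hj x => ?_⟩
    obtain rfl : j = 0 := by omega
    have := hv x
    rw [Submodule.mem_bot, sub_eq_zero] at this
    simpa using this.symm
  | succ q ih =>
    intro a b hab f₀ hf₀
    have hab' : a + c + q * c ≤ b := le_of_eq_of_le (by ring) hab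
    obtain ⟨f, hf0, hf⟩ := ih (a + c) b hab' f₀ hf₀
    let u : F.X (q + 2) →ₗ[A] (T.C (a + c)).X (q + 1) := f (q + 1) ∘ₗ (F.d (q + 2) (q + 1)).hom
    let t := fun j => ((T.τ (Nat.le_add_right a c)).f j).hom
    obtain ⟨v, hv⟩ := lift_mod ((T.C a).d (q + 2) (q + 1)).hom (t (q + 1) ∘ₗ u)
      ((⊥ : Ideal A) • (⊤ : Submodule A ((T.C a).X (q + 1)))) (fun x => hT a q (u x) (by
        rw [Submodule.bot_smul, Submodule.mem_bot]
        simp only [u, LinearMap.comp_apply]
        rw [hf q le_rfl, dd_apply, map_zero]))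
    refine ⟨Function.update (fun j => t j ∘ₗ f j) (q + 2) v, ?_, fun j hj x => ?_⟩
    · rw [Function.update_of_ne (by omega), hf0]
      ext x
      exact T.τ_comp _ _ 0 (f₀ x)
    · rw [Function.update_of_ne (show j ≠ q + 2 by omega)]
      obtain rfl | hj' := hj.eq_or_lt
      · rw [Function.update_self]
        have := hv x
        rw [Submodule.bot_smul, Submodule.mem_bot, sub_eq_zero] at this
        exact this.symm
      · rw [Function.update_of_ne (show j + 1 ≠ q + 2 by omega)]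
        simp only [t, LinearMap.comp_apply]
        rw [← comm_apply, hf j (by omega)]

/-- A chain map into a tower lifting a given map in degree zero. -/
theorem exists_hom {T : Tower A} {c : ℕ} (hT : T.IsZeroMod ⊥ c) (F : Cx A)
    (hF : ∀ j, Module.Projective A (F.X j)) (q a b : ℕ) (hab : a + q * c ≤ b)
    (hvan : ∀ j, q < j → Subsingleton (F.X (j + 1)) ∨ Subsingleton ((T.C a).X j))
    (f₀ : F.X 0 →ₗ[A] (T.C b).X 0)
    (hf₀ : ∀ x, f₀ ((F.d 1 0).hom x) ∈ LinearMap.range ((T.C b).d 1 0).hom) :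
    ∃ φ : F ⟶ T.C a,
      (φ.f 0).hom = ((T.τ (le_trans (Nat.le_add_right a (q * c)) hab)).f 0).hom ∘ₗ f₀ := by
  obtain ⟨f, hf0, hf⟩ := exists_partial_map hT F hF q a b hab f₀ hf₀
  refine ⟨⟨fun j => ModuleCat.ofHom (f j), ?_⟩, hf0⟩
  intro i j (hij : j + 1 = i)
  subst hij
  ext x
  change ((T.C a).d (j + 1) j).hom (f (j + 1) x) = f j ((F.d (j + 1) j).hom x)
  obtain h | h := le_or_gt j q
  · exact hf j h x
  · obtain h' | h' := hvan j h
    · rw [Subsingleton.elim x 0, map_zero, map_zero, map_zero, map_zero]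
    · exact Subsingleton.elim _ _

/-- A partial homotopy, modulo `𝔞`, between a transition map and a map concentrated in degree
zero. -/
theorem exists_partial_homotopy {T : Tower A} {c : ℕ} {𝔞 : Ideal A} (hT : T.IsZeroMod 𝔞 c)
    (hproj : ∀ b j, Module.Projective A ((T.C b).X j)) :
    ∀ (q a b : ℕ) (hab : a + (q + 1) * c ≤ b) (σ : (T.C b).X 0 →ₗ[A] (T.C b).X 0),
      (∀ x, x - σ x ∈ LinearMap.range ((T.C b).d 1 0).hom ⊔ 𝔞 • (⊤ : Submodule A _)) →
      (∀ y, σ (((T.C b).d 1 0).hom y) ∈ 𝔞 • (⊤ : Submodule A _)) →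
      ∃ h : ∀ j, (T.C b).X j →ₗ[A] (T.C a).X (j + 1), ∀ j, j ≤ q → ∀ x,
        ((T.τ (le_trans (Nat.le_add_right a _) hab)).f (j + 1)).hom x -
          (((T.C a).d (j + 2) (j + 1)).hom (h (j + 1) x) + h j (((T.C b).d (j + 1) j).hom x)) ∈
            𝔞 • (⊤ : Submodule A ((T.C a).X (j + 1))) := by
  classical
  intro q
  induction q with
  | zero =>
    intro a b hab σ hσ hσ'
    have hac : a + c ≤ b := by omega
    obtain ⟨h₀, hh₀⟩ := lift_mod ((T.C b).d 1 0).hom (LinearMap.id - σ)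
      (𝔞 • (⊤ : Submodule A _)) hσ
    let u : (T.C b).X 1 →ₗ[A] (T.C (a + c)).X 1 :=
      ((T.τ hac).f 1).hom ∘ₗ (LinearMap.id - h₀ ∘ₗ ((T.C b).d 1 0).hom)
    obtain ⟨v, hv⟩ := lift_mod ((T.C a).d 2 1).hom
      (((T.τ (Nat.le_add_right a c)).f 1).hom ∘ₗ u)
      (𝔞 • (⊤ : Submodule A ((T.C a).X 1))) (fun x => hT a 0 (u x) (by
        simp only [u, LinearMap.comp_apply, LinearMap.sub_apply, LinearMap.id_apply]
        rw [← comm_apply]
        refine map_smul_top_mem _ _ ?_
        rw [map_sub]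
        have h1 := hh₀ (((T.C b).d 1 0).hom x)
        simp only [LinearMap.sub_apply, LinearMap.id_apply] at h1
        have := Submodule.add_mem _ h1 (hσ' x)
        convert this using 1
        abel))
    refine ⟨Function.update (Function.update (fun j => 0) 0
      (((T.τ (le_trans (Nat.le_add_right a c) hac)).f 1).hom ∘ₗ h₀)) 1 v, fun j hj x => ?_⟩
    obtain rfl : j = 0 := by omega
    rw [Function.update_self, Function.update_of_ne (by omega), Function.update_self]
    have := hv x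
    simp only [u, LinearMap.comp_apply, LinearMap.sub_apply, LinearMap.id_apply, map_sub,
      T.τ_comp] at this ⊢
    convert this using 1
    abel
  | succ q ih =>
    intro a b hab σ hσ hσ'
    have hab' : a + c + (q + 1) * c ≤ b := le_of_eq_of_le (by ring) hab
    obtain ⟨h, hh⟩ := ih (a + c) b hab' σ hσ hσ'
    have hac : a + c ≤ b := le_trans (Nat.le_add_right _ _) hab'
    let u : (T.C b).X (q + 2) →ₗ[A] (T.C (a + c)).X (q + 2) :=
      ((T.τ hac).f (q + 2)).hom - h (q + 1) ∘ₗ ((T.C b).d (q + 2) (q + 1)).hom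
    let t := fun j => ((T.τ (Nat.le_add_right a c)).f j).hom
    obtain ⟨v, hv⟩ := lift_mod ((T.C a).d (q + 3) (q + 2)).hom (t (q + 2) ∘ₗ u)
      (𝔞 • (⊤ : Submodule A ((T.C a).X (q + 2)))) (fun x => hT a (q + 1) (u x) (by
        have h1 := hh q le_rfl (((T.C b).d (q + 2) (q + 1)).hom x)
        rw [dd_apply, map_zero, add_zero, comm_apply] at h1
        simpa only [u, LinearMap.sub_apply, LinearMap.comp_apply, map_sub] using h1))
    refine ⟨Function.update (fun j => t (j + 1) ∘ₗ h j) (q + 2) v, fun j hj x => ?_⟩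
    rw [Function.update_of_ne (show j ≠ q + 2 by omega)]
    obtain rfl | hj' := hj.eq_or_lt
    · rw [Function.update_self]
      have := hv x
      simp only [u, t, LinearMap.comp_apply, LinearMap.sub_apply, map_sub, T.τ_comp] at this ⊢
      convert this using 1
      abel
    · rw [Function.update_of_ne (show j + 1 ≠ q + 2 by omega)]
      have := map_smul_top_mem (t (j + 1)) 𝔞 (hh j (by omega) x)
      simp only [t, LinearMap.comp_apply, map_sub, map_add, T.τ_comp, comm_apply] at this ⊢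
      exact this

end TorARLib
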