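import Groth.Agent.TorARLib.Lift
import Mathlib.RingTheory.MvPolynomial.Ideal
import Mathlib.RingTheory.Polynomial.Basic
import Mathlib.RingTheory.Ideal.Quotient.Operations
import Mathlib.RingTheory.Filtration
import Mathlib.Algebra.Category.ModuleCat.ProjectiveDimension
import Mathlib.CategoryTheory.Abelian.Projective.Dimension
import Mathlib.Algebra.Module.Projective

/-!
The approximating complexes: for `I = (f₁, …, fₜ) ⊆ A` put `S = A[X₁, …, Xₜ]`, `J = (Xᵢ + fᵢ)` and let
`P` be a length `t` resolution of `A = S/(X)` by finite projective `S`-modules. The complexes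
`C n = P/Jⁿ P` consist of projective `A`-modules, have `H₀ = A/Iⁿ`, and by Artin–Rees their
transition maps kill positive homology, also modulo any ideal of `A`, after a bounded step.
-/

set_option autoImplicit false
universe u

open CategoryTheory CategoryTheory.Limits MvPolynomial

namespace TorARLib

variable (A : Type u) [CommRing A] (t : ℕ)

abbrev PolyRing : Type u := MvPolynomial (Fin t) A

/-- The ideal of the first `k` variables. -/
noncomputable def varIdeal (k : ℕ) : Ideal (PolyRing A t) :=
  Ideal.span ((X : Fin t → PolyRing A t) '' {i | (i : ℕ) < k})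

theorem varIdeal_zero : varIdeal A t 0 = ⊥ := by simp [varIdeal]

theorem varIdeal_succ (k : Fin t) :
    varIdeal A t (k + 1) = varIdeal A t k ⊔ Ideal.span {X k} := by
  rw [varIdeal, varIdeal, ← Ideal.span_union, ← Set.image_singleton, ← Set.image_union]
  congr 2
  ext i
  simp only [Set.mem_union, Set.mem_singleton_iff, Fin.ext_iff, Set.mem_setOf_eq]
  omega

theorem mem_varIdeal_top {x : PolyRing A t} : x ∈ varIdeal A t t ↔ constantCoeff x = 0 := by
  rw [varIdeal, mem_ideal_span_X_image, constantCoeff_eq, ← notMem_support_iff]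
  constructor
  · intro h h0
    obtain ⟨i, -, hi⟩ := h 0 h0
    simp at hi
  · intro h m hm
    obtain ⟨i, hi⟩ := Finsupp.ne_iff.1 (show m ≠ 0 by rintro rfl; exact h hm)
    exact ⟨i, i.2, by simpa using hi⟩

theorem mem_of_X_mul_mem (k : Fin t) {y : PolyRing A t} (h : X k * y ∈ varIdeal A t k) :
    y ∈ varIdeal A t k := by
  rw [varIdeal, mem_ideal_span_X_image] at h ⊢
  intro m hm
  obtain ⟨i, hi, hne⟩ := h (Finsupp.single k 1 + m) (by
    rw [support_X_mul]; exact Finset.mem_map_of_mem _ hm)
  refine ⟨i, hi, ?_⟩
  have : i ≠ k := fun e => by subst e; exact lt_irrefl _ (Set.mem_setOf_eq ▸ hi)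
  simpa [Finsupp.single_eq_of_ne this] using hne

theorem hasProjectiveDimensionLT_varIdeal : ∀ k, k ≤ t →
    HasProjectiveDimensionLT (ModuleCat.of (PolyRing A t) (PolyRing A t ⧸ varIdeal A t k)) (k + 1) := by
  intro k
  induction k with
  | zero =>
    intro _
    have : Module.Projective (PolyRing A t) (PolyRing A t ⧸ varIdeal A t 0) :=
      Module.Projective.of_equiv' (Submodule.quotEquivOfEqBot _ (varIdeal_zero A t)).symm
    rw [show (0 : ℕ) + 1 = 1 from rfl, ← projective_iff_hasProjectiveDimensionLT_one]
    exact (IsProjective.iff_projective _).1 this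
  | succ k ih =>
    intro hk
    let kk : Fin t := ⟨k, hk⟩
    let f : (PolyRing A t ⧸ varIdeal A t k) →ₗ[PolyRing A t] (PolyRing A t ⧸ varIdeal A t k) :=
      (X kk : PolyRing A t) • LinearMap.id
    have hle : varIdeal A t k ≤ varIdeal A t (k + 1) := by
      rw [varIdeal_succ A t kk]; exact le_sup_left
    let g : (PolyRing A t ⧸ varIdeal A t k) →ₗ[PolyRing A t] (PolyRing A t ⧸ varIdeal A t (k + 1)) :=
      Submodule.factor hle
    have hX : (X kk : PolyRing A t) ∈ varIdeal A t (k + 1) := by
      rw [varIdeal_succ A t kk]; exact Submodule.mem_sup_right (Ideal.mem_span_singleton_self _)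
    have hgf : ∀ x, g (f x) = 0 := by
      intro x
      obtain ⟨y, rfl⟩ := Submodule.Quotient.mk_surjective _ x
      exact (Submodule.Quotient.mk_eq_zero _).2 (Ideal.mul_mem_right _ _ hX)
    let T := ShortComplex.mk (ModuleCat.ofHom f) (ModuleCat.ofHom g)
      (ModuleCat.hom_ext (LinearMap.ext hgf))
    have hT : T.Exact := by
      rw [ShortComplex.moduleCat_exact_iff]
      intro x hx
      obtain ⟨y, rfl⟩ := Submodule.Quotient.mk_surjective _ x
      have hy : y ∈ varIdeal A t (k + 1) := (Submodule.Quotient.mk_eq_zero _).1 hx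
      rw [varIdeal_succ A t kk, Submodule.mem_sup] at hy
      obtain ⟨a, ha, b, hb, rfl⟩ := hy
      obtain ⟨s, rfl⟩ := Ideal.mem_span_singleton'.1 hb
      refine ⟨Submodule.Quotient.mk s, ?_⟩
      show f (Submodule.Quotient.mk s) = Submodule.Quotient.mk (a + s * X kk)
      simp only [f, LinearMap.smul_apply, LinearMap.id_apply]
      rw [← Submodule.Quotient.mk_smul, Submodule.Quotient.eq, smul_eq_mul,
        show X kk * s - (a + s * X kk) = -a by ring]
      exact neg_mem ha
    have hS : T.ShortExact :=
      { exact := hT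
        mono_f := by
          rw [ModuleCat.mono_iff_injective]
          refine (injective_iff_map_eq_zero f).2 fun x hx => ?_
          obtain ⟨y, rfl⟩ := Submodule.Quotient.mk_surjective _ x
          exact (Submodule.Quotient.mk_eq_zero _).2
            (mem_of_X_mul_mem A t kk ((Submodule.Quotient.mk_eq_zero _).1 hx))
        epi_g := by
          rw [ModuleCat.epi_iff_surjective]
          intro x
          obtain ⟨y, rfl⟩ := Submodule.Quotient.mk_surjective _ x
          exact ⟨Submodule.Quotient.mk y, rfl⟩ }
    have h1 := ih (le_of_lt hk)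
    exact hS.hasProjectiveDimensionLT_X₃ (k + 1) h1
      (hasProjectiveDimensionLT_of_ge _ (k + 1) (k + 2) (Nat.le_succ _))

variable {A t}

/-- A finite projective resolution of bounded length, by submodules of finite free modules. -/
structure Res (R : Type u) [CommRing R] (N : Type u) [AddCommGroup N] [Module R N] (k : ℕ) where
  r : ℕ → ℕ
  P : ∀ j, Submodule R (Fin (r j) → R)
  proj : ∀ j, Module.Projective R (P j)
  bot : ∀ j, k < j → P j = ⊥
  d : ∀ j, P (j + 1) →ₗ[R] P j
  π₀ : P 0 →ₗ[R] N
  surj : Function.Surjective π₀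
  exact₀ : LinearMap.ker π₀ = LinearMap.range (d 0)
  exact : ∀ j, LinearMap.ker (d j) = LinearMap.range (d (j + 1))

theorem exists_res {R : Type u} [CommRing R] [IsNoetherianRing R] :
    ∀ (k : ℕ) (N : Type u) [AddCommGroup N] [Module R N] [Module.Finite R N],
      HasProjectiveDimensionLT (ModuleCat.of R N) (k + 1) → Nonempty (Res R N k) := by
  intro k
  induction k with
  | zero =>
    intro N _ _ _ hN
    have hp : Module.Projective R N := by
      have : Projective (ModuleCat.of R N) :=
        projective_iff_hasProjectiveDimensionLT_one.2 hN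
      exact (IsProjective.iff_projective _).2 this
    obtain ⟨n, f, hf⟩ := Module.Finite.exists_fin' R N
    obtain ⟨i, hi⟩ := Module.projective_lifting_property f LinearMap.id hf
    have hinj : Function.Injective i := fun x y h => by
      have := congr(f $h); simpa [← LinearMap.comp_apply, hi] using this
    refine ⟨⟨fun _ => n, fun j => match j with | 0 => LinearMap.range i | _ + 1 => ⊥,
      fun j => ?_, fun j hj => ?_, fun _ => 0, f ∘ₗ (LinearMap.range i).subtype, ?_, ?_,
      fun j => ?_⟩⟩
    · match j with
      | 0 => exact Module.Projective.of_equiv' (LinearEquiv.ofInjective i hinj)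
      | j + 1 => exact Module.Projective.of_free
    · match j, hj with
      | j + 1, _ => rfl
    · intro x
      exact ⟨⟨i x, x, rfl⟩, by simpa using LinearMap.congr_fun hi x⟩
    · ext ⟨_, x, rfl⟩
      have := LinearMap.congr_fun hi x
      simp only [LinearMap.comp_apply, LinearMap.id_apply] at this
      simp [this, Subtype.ext_iff, map_eq_zero_iff i hinj]
    · ext ⟨x, hx⟩
      have : x = 0 := hx
      subst this
      simp
  | succ k ih =>
    intro N _ _ _ hN
    obtain ⟨n, f, hf⟩ := Module.Finite.exists_fin' R N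
    have hS := LinearMap.shortExact_shortComplexKer hf
    have hK : HasProjectiveDimensionLT (ModuleCat.of R (LinearMap.ker f)) (k + 1) :=
      (hS.hasProjectiveDimensionLT_X₃_iff k
        ((IsProjective.iff_projective _).1 (inferInstanceAs (Module.Projective R (Fin n → R))))).1 hN
    obtain ⟨Q⟩ := ih (LinearMap.ker f) hK
    let r : ℕ → ℕ := fun j => match j with | 0 => n | j + 1 => Q.r j
    let P : ∀ j, Submodule R (Fin (r j) → R) := fun j => match j with | 0 => ⊤ | j + 1 => Q.P j
    let d : ∀ j, P (j + 1) →ₗ[R] P j := fun j => match j with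
      | 0 => ((LinearMap.ker f).subtype ∘ₗ Q.π₀).codRestrict ⊤ (fun _ => trivial)
      | j + 1 => Q.d j
    refine ⟨⟨r, P, fun j => ?_, fun j hj => ?_, d, f ∘ₗ (⊤ : Submodule R (Fin n → R)).subtype,
      ?_, ?_, fun j => ?_⟩⟩
    · match j with
      | 0 => exact Module.Projective.of_equiv' Submodule.topEquiv.symm
      | j + 1 => exact Q.proj j
    · match j, hj with
      | j + 1, hj => exact Q.bot j (by omega)
    · exact fun x => (hf x).imp' (fun y => ⟨y, trivial⟩) (fun _ h => h)
    · ext x
      constructor
      · intro hx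
        obtain ⟨y, hy⟩ := Q.surj ⟨x.1, hx⟩
        exact ⟨y, Subtype.ext congr(($hy : Fin n → R))⟩
      · rintro ⟨y, rfl⟩
        exact (Q.π₀ y).2
    · match j with
      | 0 =>
        rw [show d (0 + 1) = Q.d 0 from rfl, ← Q.exact₀]
        simp only [d, LinearMap.ker_codRestrict]
        exact LinearMap.ker_comp_of_ker_eq_bot _ (Submodule.ker_subtype _)
      | j + 1 => exact Q.exact j

section

variable (A t) [IsNoetherianRing A]

theorem exists_res_constantCoeff :
    Nonempty (Res (PolyRing A t) (PolyRing A t ⧸ varIdeal A t t) t) :=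
  exists_res t _ (hasProjectiveDimensionLT_varIdeal A t t le_rfl)

/-- The chosen resolution of `A = S/(X)`. -/
noncomputable def polyRes : Res (PolyRing A t) (PolyRing A t ⧸ varIdeal A t t) t :=
  (exists_res_constantCoeff A t).some

end

section Complex

variable (R : Res (PolyRing A t) (PolyRing A t ⧸ varIdeal A t t) t)

/-- `constantCoeff` on the quotient by all variables. -/
noncomputable def cc : (PolyRing A t ⧸ varIdeal A t t) →+* A :=
  Ideal.Quotient.lift _ constantCoeff fun _ h => (mem_varIdeal_top A t).1 h

theorem cc_injective : Function.Injective (cc (A := A) (t := t)) :=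
  RingHom.lift_injective_of_ker_le_ideal _ _ fun _ h => (mem_varIdeal_top A t).2 h

theorem cc_smul (s : PolyRing A t) (q : PolyRing A t ⧸ varIdeal A t t) :
    cc (s • q) = constantCoeff s * cc q := by
  obtain ⟨y, rfl⟩ := Ideal.Quotient.mk_surjective q
  exact map_mul constantCoeff s y

/-- The augmentation `P 0 → A`. -/
noncomputable def eps : R.P 0 →ₗ[A] A where
  toFun x := cc (R.π₀ x)
  map_add' x y := by simp
  map_smul' a x := by
    change cc (R.π₀ (a • x)) = a * cc (R.π₀ x)
    rw [← IsScalarTower.algebraMap_smul (PolyRing A t) a x, map_smul, cc_smul]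
    simp

theorem eps_smul (s : PolyRing A t) (x : R.P 0) :
    eps R (s • x) = constantCoeff s * eps R x := by
  change cc (R.π₀ (s • x)) = constantCoeff s * cc (R.π₀ x)
  rw [map_smul, cc_smul]

theorem exists_eps_eq_one : ∃ e : R.P 0, eps R e = 1 := by
  obtain ⟨e, he⟩ := R.surj 1
  exact ⟨e, by change cc (R.π₀ e) = 1; rw [he, map_one]⟩

theorem eps_d (x : R.P 1) : eps R (R.d 0 x) = 0 := by
  have : R.π₀ (R.d 0 x) = 0 := by
    rw [← LinearMap.mem_ker, R.exact₀]; exact ⟨x, rfl⟩
  change cc (R.π₀ _) = 0
  rw [this, map_zero]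

theorem exists_d_of_eps {x : R.P 0} (h : eps R x = 0) : ∃ w, R.d 0 w = x := by
  have : R.π₀ x = 0 := cc_injective (h.trans (map_zero _).symm)
  rwa [← LinearMap.mem_ker, R.exact₀] at this

theorem dd (j : ℕ) (x : R.P (j + 2)) : R.d j (R.d (j + 1) x) = 0 := by
  rw [← LinearMap.mem_ker, R.exact]; exact ⟨x, rfl⟩

theorem exists_d_of_d {j : ℕ} {x : R.P (j + 1)} (h : R.d j x = 0) :
    ∃ w, R.d (j + 1) w = x := by
  rwa [← LinearMap.mem_ker, R.exact] at h

theorem subsingleton_P {j : ℕ} (hj : t < j) : Subsingleton (R.P j) := by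
  rw [R.bot j hj]; infer_instance

theorem exists_split [IsNoetherianRing A] (j : ℕ) :
    ∃ (m : ℕ) (s : R.P j →ₗ[PolyRing A t] (Fin m → PolyRing A t))
      (p : (Fin m → PolyRing A t) →ₗ[PolyRing A t] R.P j), p ∘ₗ s = LinearMap.id := by
  have := R.proj j
  obtain ⟨m, p, hp⟩ := Module.Finite.exists_fin' (PolyRing A t) (R.P j)
  obtain ⟨s, hs⟩ := Module.projective_lifting_property p LinearMap.id hp
  exact ⟨m, s, p, hs⟩

theorem projective_P [IsNoetherianRing A] (j : ℕ) : Module.Projective A (R.P j) := by
  obtain ⟨m, s, p, h⟩ := exists_split R j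
  exact Module.Projective.of_split (s.restrictScalars A) (p.restrictScalars A)
    (LinearMap.ext fun x => LinearMap.congr_fun h x)

end Complex

end TorARLib
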